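import Cfsg.Agent.H28.SmallOrders.Mid.CasesC
import Cfsg.Agent.H28.SmallOrders.Mid.Order1512
import Cfsg.Agent.H28.SmallOrders.Range.Main
import Cfsg.Agent.S0496
import Cfsg.Agent.S1015
import Cfsg.Agent.S1016
import Cfsg.Agent.S1017

/-!
# The orders of the non-abelian simple groups of order at most 6232
-/

set_option autoImplicit false
set_option synthInstance.maxSize 1024

namespace Cfsg.Agent.H28.Mid

open Subgroup MulAction H28.Range6232

variable {G : Type*} [Group G] [Finite G] [IsSimpleGroup G]

/-- A prime `p` with `p ^ 3 > |G|` leaves the two linear groups of orders 2448 and 3420. -/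
theorem of_big_prime (hG : ¬ IsMulCommutative G) (h1 : 1092 < Nat.card G)
    (h2 : Nat.card G ≤ 3640) {p : ℕ} (hp : p.Prime) (h11 : 11 ≤ p) (hd : p ∣ Nat.card G)
    (hbig : Nat.card G < p ^ 3) : Nat.card G = 2448 ∨ Nat.card G = 3420 := by
  rcases S0999.result (not_isCyclic hG) p hp hd hbig with
    ⟨F, iF, iFf, hF, -, ⟨e⟩⟩ | ⟨m, F, iF, iFf, hF, hm, -, ⟨e⟩⟩
  · have hc := H6.card_psl2_mul (F := F) hF
    rw [← Nat.card_congr e.toEquiv] at hc
    obtain ⟨j, hj⟩ := hp.odd_of_ne_two (by omega : p ≠ 2)
    rw [Nat.gcd_eq_left (⟨j, by omega⟩ : 2 ∣ p - 1)] at hc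
    have hp20 : p < 20 := by
      by_contra hlt
      have h25 : 20 * (20 ^ 2 - 1) ≤ p * (p ^ 2 - 1) :=
        Nat.mul_le_mul (by omega) (Nat.sub_le_sub_right (Nat.pow_le_pow_left (by omega) 2) 1)
      omega
    interval_cases p <;> norm_num at * <;> omega
  · have hc := H6.card_psl2_mul (F := F) hF
    rw [← Nat.card_congr e.toEquiv] at hc
    have hm4 : 4 ≤ m := by
      by_contra hlt
      have : 2 ^ m ≤ 2 ^ 3 := Nat.pow_le_pow_right two_pos (by omega)
      omega
    exfalso
    have h16 : 16 ≤ 2 ^ m := (show 16 = 2 ^ 4 by norm_num) ▸ Nat.pow_le_pow_right two_pos hm4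
    have h17 : 16 * (16 ^ 2 - 1) ≤ 2 ^ m * ((2 ^ m) ^ 2 - 1) :=
      Nat.mul_le_mul h16 (Nat.sub_le_sub_right (Nat.pow_le_pow_left h16 2) 1)
    have hg : Nat.gcd 2 (2 ^ m - 1) = 1 := by
      have hodd : Odd (2 ^ m - 1) := Nat.Even.sub_odd (Nat.one_le_two_pow)
        (Nat.even_pow.mpr ⟨even_two, by omega⟩) odd_one
      exact Nat.coprime_two_left.mpr hodd
    rw [hg, mul_one] at hc
    omega

/-- The orders with all prime divisors small. -/
def smoothList : List ℕ :=
  [1120, 1152, 1176, 1200, 1260, 1280, 1296, 1344, 1372, 1400, 1408, 1440, 1452, 1500,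
   1512, 1536, 1540, 1568, 1584, 1600, 1620, 1680, 1728, 1760, 1764, 1792, 1800, 1848,
   1920, 1936, 1944, 1960, 1980, 2000, 2016, 2048, 2100, 2112, 2156, 2160, 2200, 2240,
   2268, 2288, 2304, 2340, 2352, 2376, 2400, 2420, 2464, 2496, 2500, 2520, 2548, 2560,
   2592, 2600, 2640, 2688, 2700, 2704, 2744, 2772, 2800, 2808, 2816, 2860, 2880, 2904,
   2912, 2916, 2940, 3000, 3024, 3072, 3080, 3120, 3136, 3168, 3200, 3240, 3276, 3300,
   3328, 3360, 3380, 3388, 3432, 3456, 3500, 3520, 3528, 3564, 3584, 3600, 3640]

theorem smooth_check : ∀ j < 637, (1096 + 4 * j) / Nat.gcd (1096 + 4 * j) (30030 ^ 12) = 1 ∧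
      ((1096 + 4 * j) % 13 = 0 ∧ 1096 + 4 * j < 2197 ∨ (1096 + 4 * j) % 11 = 0 ∧ 1096 + 4 * j < 1331 ∨
        1096 + 4 * j ∈ smoothList) ∨
    1 < (1096 + 4 * j) / Nat.gcd (1096 + 4 * j) (30030 ^ 12) ∧
      Nat.gcd ((1096 + 4 * j) / Nat.gcd (1096 + 4 * j) (30030 ^ 12)) 30030 = 1 := by
  decide +kernel

set_option maxHeartbeats 1600000 in
theorem main (hG : ¬ IsMulCommutative G) (h1 : 1092 < Nat.card G) (h2 : Nat.card G ≤ 3640) :
    Nat.card G = 2448 ∨ Nat.card G = 2520 ∨ Nat.card G = 3420 := by
  obtain ⟨c, hc⟩ := four_dvd hG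
  have hj := smooth_check (c - 274) (by omega)
  rw [show 1096 + 4 * (c - 274) = Nat.card G by omega] at hj
  rcases hj with ⟨-, h13 | h11 | hL⟩ | ⟨hgt, hcop⟩
  · rcases of_big_prime hG h1 h2 (p := 13) (by norm_num) (by norm_num)
      (Nat.dvd_of_mod_eq_zero h13.1) (by omega) with h | h
    · exact Or.inl h
    · exact Or.inr (Or.inr h)
  · rcases of_big_prime hG h1 h2 (p := 11) (by norm_num) le_rfl
      (Nat.dvd_of_mod_eq_zero h11.1) (by omega) with h | h
    · exact Or.inl h
    · exact Or.inr (Or.inr h)
  swap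
  · set g := Nat.card G / Nat.gcd (Nat.card G) (30030 ^ 12) with hg
    have hp := Nat.minFac_prime (show g ≠ 1 by omega)
    have hpd := Nat.minFac_dvd g
    have hgn : g ∣ Nat.card G := Nat.div_dvd_of_dvd (Nat.gcd_dvd_left _ _)
    have h17 : 17 ≤ g.minFac := by
      by_contra hlt
      have h510 : g.minFac ∣ 30030 := by
        have hcases : ∀ q < 17, q.Prime → q ∣ 30030 := by decide +kernel
        exact hcases _ (by omega) hp
      have := Nat.dvd_gcd hpd h510
      rw [hcop] at this
      exact hp.one_lt.ne' (Nat.dvd_one.mp this)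
    have hbig : Nat.card G < g.minFac ^ 3 :=
      lt_of_lt_of_le (by omega : Nat.card G < 17 ^ 3) (Nat.pow_le_pow_left h17 3)
    rcases of_big_prime hG h1 h2 hp (by omega) (hpd.trans hgn) hbig with h | h
    · exact Or.inl h
    · exact Or.inr (Or.inr h)
  generalize h : Nat.card G = n at hL
  simp only [smoothList, List.mem_cons, List.mem_nil_iff, or_false] at hL
  rcases hL with rfl | rfl | rfl | rfl | rfl | rfl | rfl | rfl | rfl | rfl | rfl | rfl | rfl | rfl | rfl | rfl | rfl | rfl | rfl | rfl | rfl | rfl | rfl | rfl | rfl | rfl | rfl | rfl | rfl | rfl | rfl | rfl | rfl | rfl | rfl | rfl | rfl | rfl | rfl | rfl | rfl | rfl | rfl | rfl | rfl | rfl | rfl | rfl | rfl | rfl | rfl | rfl | rfl | rfl | rfl | rfl | rfl | rfl | rfl | rfl | rfl | rfl | rfl | rfl | rfl | rfl | rfl | rfl | rfl | rfl | rfl | rfl | rfl | rfl | rfl | rfl | rfl | rfl | rfl | rfl | rfl | rfl | rfl | rfl | rfl | rfl | rfl | rfl | rfl | rfl | rfl | rfl | rfl | rfl | rfl | rfl | rfl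
  · exact (false_of_prq hG 5 2 7 5 (by norm_num) (by norm_num) (by norm_num) (by norm_num) (by norm_num) (by norm_num) (by rw [h]; norm_num) (by rw [h]; norm_num) (by rw [h]; norm_num)).elim
  · exact (false_of_two_primes hG 2 3 7 2 (by norm_num) (by norm_num) (by rw [h]; norm_num)).elim
  · exact (false_of_sylowOpts_nil hG 7 2 24 (by norm_num) (by norm_num) (by rw [h]; norm_num) (by norm_num) (by decide +kernel)).elim
  · exact (S1015.result (G := G) h).elim
  · exact (false_of_primeOpts_nil hG 7 180 (by norm_num) (by norm_num) (by rw [h]) (by norm_num) (by decide +kernel)).elim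
  · exact (false_of_two_primes hG 2 5 8 1 (by norm_num) (by norm_num) (by rw [h]; norm_num)).elim
  · exact (false_of_two_primes hG 2 3 4 4 (by norm_num) (by norm_num) (by rw [h]; norm_num)).elim
  · exact (false_of_prq hG 3 2 7 6 (by norm_num) (by norm_num) (by norm_num) (by norm_num) (by norm_num) (by norm_num) (by rw [h]; norm_num) (by rw [h]; norm_num) (by rw [h]; norm_num)).elim
  · exact (false_of_two_primes hG 2 7 2 3 (by norm_num) (by norm_num) (by rw [h]; norm_num)).elim
  · exact (Mid.not_1400 hG h).elim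
  · exact (false_of_two_primes hG 2 11 7 1 (by norm_num) (by norm_num) (by rw [h]; norm_num)).elim
  · exact (S1016.result (G := G) h).elim
  · exact (false_of_sylowOpts_nil hG 11 2 12 (by norm_num) (by norm_num) (by rw [h]; norm_num) (by norm_num) (by decide +kernel)).elim
  · exact (false_of_sylowOpts_nil hG 5 3 12 (by norm_num) (by norm_num) (by rw [h]; norm_num) (by norm_num) (by decide +kernel)).elim
  · exact (Mid.not_1512 hG h).elim
  · exact (false_of_two_primes hG 2 3 9 1 (by norm_num) (by norm_num) (by rw [h]; norm_num)).elim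
  · exact (false_of_klein hG (by rw [h]; norm_num) (by rw [h]; norm_num) (by rw [h]; norm_num)).elim
  · exact (false_of_two_primes hG 2 7 5 2 (by norm_num) (by norm_num) (by rw [h]; norm_num)).elim
  · exact (false_of_primeOpts_nil hG 11 144 (by norm_num) (by norm_num) (by rw [h]) (by norm_num) (by decide +kernel)).elim
  · exact (false_of_two_primes hG 2 5 6 2 (by norm_num) (by norm_num) (by rw [h]; norm_num)).elim
  · exact (Mid.not_1620 hG h).elim
  · exact (Mid.not_1680 hG h).elim
  · exact (false_of_two_primes hG 2 3 6 3 (by norm_num) (by norm_num) (by rw [h]; norm_num)).elim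
  · exact (false_of_prq hG 5 2 11 5 (by norm_num) (by norm_num) (by norm_num) (by norm_num) (by norm_num) (by norm_num) (by rw [h]; norm_num) (by rw [h]; norm_num) (by rw [h]; norm_num)).elim
  · exact (Mid.not_1764 hG h).elim
  · exact (false_of_two_primes hG 2 7 8 1 (by norm_num) (by norm_num) (by rw [h]; norm_num)).elim
  · exact (Mid.not_1800 hG h).elim
  · exact (false_of_primeOpts_nil hG 7 264 (by norm_num) (by norm_num) (by rw [h]) (by norm_num) (by decide +kernel)).elim
  · exact (false_of_prq hG 3 2 5 7 (by norm_num) (by norm_num) (by norm_num) (by norm_num) (by norm_num) (by norm_num) (by rw [h]; norm_num) (by rw [h]; norm_num) (by rw [h]; norm_num)).elim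
  · exact (false_of_two_primes hG 2 11 4 2 (by norm_num) (by norm_num) (by rw [h]; norm_num)).elim
  · exact (false_of_two_primes hG 2 3 3 5 (by norm_num) (by norm_num) (by rw [h]; norm_num)).elim
  · exact (false_of_sylowOpts_nil hG 7 2 40 (by norm_num) (by norm_num) (by rw [h]; norm_num) (by norm_num) (by decide +kernel)).elim
  · exact (Mid.not_1980 hG h).elim
  · exact (false_of_two_primes hG 2 5 4 3 (by norm_num) (by norm_num) (by rw [h]; norm_num)).elim
  · exact (S1017.result (G := G) h).elim
  · exact (false_of_two_primes hG 2 3 11 0 (by norm_num) (by norm_num) (by rw [h]; norm_num)).elim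
  · exact (Mid.not_2100 hG h).elim
  · exact (false_of_prq hG 3 2 11 6 (by norm_num) (by norm_num) (by norm_num) (by norm_num) (by norm_num) (by norm_num) (by rw [h]; norm_num) (by rw [h]; norm_num) (by rw [h]; norm_num)).elim
  · exact (false_of_klein hG (by rw [h]; norm_num) (by rw [h]; norm_num) (by rw [h]; norm_num)).elim
  · exact (Mid.not_2160 hG h).elim
  · exact (Mid.not_2200 hG h).elim
  · exact (false_of_prq hG 5 2 7 6 (by norm_num) (by norm_num) (by norm_num) (by norm_num) (by norm_num) (by norm_num) (by rw [h]; norm_num) (by rw [h]; norm_num) (by rw [h]; norm_num)).elim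
  · exact (Mid.not_2268 hG h).elim
  · exact (false_of_prq hG 11 2 13 4 (by norm_num) (by norm_num) (by norm_num) (by norm_num) (by norm_num) (by norm_num) (by rw [h]; norm_num) (by rw [h]; norm_num) (by rw [h]; norm_num)).elim
  · exact (false_of_two_primes hG 2 3 8 2 (by norm_num) (by norm_num) (by rw [h]; norm_num)).elim
  · exact (false_of_primeOpts_nil hG 13 180 (by norm_num) (by norm_num) (by rw [h]) (by norm_num) (by decide +kernel)).elim
  · exact (false_of_sylowOpts_nil hG 7 2 48 (by norm_num) (by norm_num) (by rw [h]; norm_num) (by norm_num) (by decide +kernel)).elim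
  · exact (false_of_primeOpts_nil hG 11 216 (by norm_num) (by norm_num) (by rw [h]) (by norm_num) (by decide +kernel)).elim
  · exact (Mid.not_2400 hG h).elim
  · exact (false_of_klein hG (by rw [h]; norm_num) (by rw [h]; norm_num) (by rw [h]; norm_num)).elim
  · exact (false_of_prq hG 7 2 11 5 (by norm_num) (by norm_num) (by norm_num) (by norm_num) (by norm_num) (by norm_num) (by rw [h]; norm_num) (by rw [h]; norm_num) (by rw [h]; norm_num)).elim
  · exact (false_of_prq hG 3 2 13 6 (by norm_num) (by norm_num) (by norm_num) (by norm_num) (by norm_num) (by norm_num) (by rw [h]; norm_num) (by rw [h]; norm_num) (by rw [h]; norm_num)).elim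
  · exact (false_of_two_primes hG 2 5 2 4 (by norm_num) (by norm_num) (by rw [h]; norm_num)).elim
  · exact Or.inr (Or.inl rfl)
  · exact (false_of_klein hG (by rw [h]; norm_num) (by rw [h]; norm_num) (by rw [h]; norm_num)).elim
  · exact (false_of_two_primes hG 2 5 9 1 (by norm_num) (by norm_num) (by rw [h]; norm_num)).elim
  · exact (false_of_two_primes hG 2 3 5 4 (by norm_num) (by norm_num) (by rw [h]; norm_num)).elim
  · exact (false_of_primeOpts_nil hG 13 200 (by norm_num) (by norm_num) (by rw [h]) (by norm_num) (by decide +kernel)).elim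
  · exact (false_of_primeOpts_nil hG 11 240 (by norm_num) (by norm_num) (by rw [h]) (by norm_num) (by decide +kernel)).elim
  · exact (false_of_prq hG 3 2 7 7 (by norm_num) (by norm_num) (by norm_num) (by norm_num) (by norm_num) (by norm_num) (by rw [h]; norm_num) (by rw [h]; norm_num) (by rw [h]; norm_num)).elim
  · exact (Mid.not_2700 hG h).elim
  · exact (false_of_two_primes hG 2 13 4 2 (by norm_num) (by norm_num) (by rw [h]; norm_num)).elim
  · exact (false_of_two_primes hG 2 7 3 3 (by norm_num) (by norm_num) (by rw [h]; norm_num)).elim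
  · exact (false_of_primeOpts_nil hG 11 252 (by norm_num) (by norm_num) (by rw [h]) (by norm_num) (by decide +kernel)).elim
  · exact (Mid.not_2800 hG h).elim
  · exact (false_of_primeOpts_nil hG 13 216 (by norm_num) (by norm_num) (by rw [h]) (by norm_num) (by decide +kernel)).elim
  · exact (false_of_two_primes hG 2 11 8 1 (by norm_num) (by norm_num) (by rw [h]; norm_num)).elim
  · exact (false_of_klein hG (by rw [h]; norm_num) (by rw [h]; norm_num) (by rw [h]; norm_num)).elim
  · exact (Mid.not_2880 hG h).elim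
  · exact (false_of_sylowOpts_nil hG 11 2 24 (by norm_num) (by norm_num) (by rw [h]; norm_num) (by norm_num) (by decide +kernel)).elim
  · exact (false_of_prq hG 7 2 13 5 (by norm_num) (by norm_num) (by norm_num) (by norm_num) (by norm_num) (by norm_num) (by rw [h]; norm_num) (by rw [h]; norm_num) (by rw [h]; norm_num)).elim
  · exact (false_of_two_primes hG 2 3 2 6 (by norm_num) (by norm_num) (by rw [h]; norm_num)).elim
  · exact (false_of_primeOpts_nil hG 5 588 (by norm_num) (by norm_num) (by rw [h]) (by norm_num) (by decide +kernel)).elim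
  · exact (false_of_sylowOpts_nil hG 5 3 24 (by norm_num) (by norm_num) (by rw [h]; norm_num) (by norm_num) (by decide +kernel)).elim
  · exact (Mid.not_3024 hG h).elim
  · exact (false_of_two_primes hG 2 3 10 1 (by norm_num) (by norm_num) (by rw [h]; norm_num)).elim
  · exact (false_of_primeOpts_nil hG 5 616 (by norm_num) (by norm_num) (by rw [h]) (by norm_num) (by decide +kernel)).elim
  · exact (Mid.not_3120 hG h).elim
  · exact (false_of_two_primes hG 2 7 6 2 (by norm_num) (by norm_num) (by rw [h]; norm_num)).elim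
  · exact (Mid.not_3168 hG h).elim
  · exact (false_of_two_primes hG 2 5 7 2 (by norm_num) (by norm_num) (by rw [h]; norm_num)).elim
  · exact (Mid.not_3240 hG h).elim
  · exact (false_of_primeOpts_nil hG 13 252 (by norm_num) (by norm_num) (by rw [h]) (by norm_num) (by decide +kernel)).elim
  · exact (false_of_primeOpts_nil hG 11 300 (by norm_num) (by norm_num) (by rw [h]) (by norm_num) (by decide +kernel)).elim
  · exact (false_of_two_primes hG 2 13 8 1 (by norm_num) (by norm_num) (by rw [h]; norm_num)).elim
  · exact (Mid.not_3360 hG h).elim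
  · exact (false_of_klein hG (by rw [h]; norm_num) (by rw [h]; norm_num) (by rw [h]; norm_num)).elim
  · exact (false_of_klein hG (by rw [h]; norm_num) (by rw [h]; norm_num) (by rw [h]; norm_num)).elim
  · exact (Mid.not_3432 hG h).elim
  · exact (false_of_two_primes hG 2 3 7 3 (by norm_num) (by norm_num) (by rw [h]; norm_num)).elim
  · exact (false_of_klein hG (by rw [h]; norm_num) (by rw [h]; norm_num) (by rw [h]; norm_num)).elim
  · exact (false_of_prq hG 5 2 11 6 (by norm_num) (by norm_num) (by norm_num) (by norm_num) (by norm_num) (by norm_num) (by rw [h]; norm_num) (by rw [h]; norm_num) (by rw [h]; norm_num)).elim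
  · exact (Mid.not_3528 hG h).elim
  · exact (false_of_primeOpts_nil hG 11 324 (by norm_num) (by norm_num) (by rw [h]) (by norm_num) (by decide +kernel)).elim
  · exact (false_of_two_primes hG 2 7 9 1 (by norm_num) (by norm_num) (by rw [h]; norm_num)).elim
  · exact (Mid.not_3600 hG h).elim
  · exact (false_of_primeOpts_nil hG 13 280 (by norm_num) (by norm_num) (by rw [h]) (by norm_num) (by decide +kernel)).elim

/-- The orders of the non-abelian simple groups of order at most 6232. -/
theorem orders_le (hG : ¬ IsMulCommutative G) (h : Nat.card G ≤ 6232) :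
    Nat.card G ∈ ({60, 168, 360, 504, 660, 1092, 2448, 2520, 3420, 4080, 5616, 6048, 6072} : Finset ℕ) := by
  simp only [Finset.mem_insert, Finset.mem_singleton]
  rcases Nat.lt_or_ge 1092 (Nat.card G) with h1 | h1
  · rcases Nat.lt_or_ge 3640 (Nat.card G) with h2 | h2
    · rcases Range6232.main hG h2 h with h' | h' | h' | h' <;> omega
    · rcases main hG h1 h2 with h' | h' | h' <;> omega
  · rcases S0496.result hG h1 with h' | h' | h' | h' | h' | h' <;> omega

end Cfsg.Agent.H28.Mid
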